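import Cfsg.Agent.H398.RG.CondTF
import Cfsg.Agent.H798.RG.TopRoot
import Cfsg.Agent.H165.FC.Tor

/-!
# S3509: the highest root is long (helper398)

* `lg_top` : the highest root is long; `lg_rep` : its images under the Weyl group;
* `sl_tor`, `F4_tor` : `Cond` for a torus form.
-/

set_option autoImplicit false
set_option linter.unusedSectionVars false

namespace Cfsg.Agent.H398.RG

open CoxeterSystem Cfsg Cfsg.Lie Cfsg.Lie.ChevalleyDatum
open Cfsg.Agent.ChevalleyStructure Cfsg.Agent.ChevalleyStructure.Elts Cfsg.Agent.ChevalleyStructure.CoxeterGeom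
  Cfsg.Agent.ChevalleyStructure.CoxeterGeomTypes Cfsg.Agent.ChevalleyStructure.NPerm
open Cfsg.Agent.Tits.Roots Cfsg.Agent.Tits.Core Cfsg.Agent.Nodes Cfsg.Agent.Nodes.Reps Cfsg.Agent.Nodes.BNOf
  Cfsg.Agent.Nodes.RGDChev Cfsg.Agent.Nodes.Coroot
open Cfsg.Agent.KFacts.RgdField Cfsg.Agent.KFacts.RgdChevCoord Cfsg.Agent.KFacts.RgdSL
open Cfsg.Agent.H380.RG

universe v

variable {D : ChevalleyDatum} {l : ℕ} {M : CoxeterMatrix (Fin l)} (hp : IsType D l M) {W : Type v} [Group W]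
  (cs : CoxeterSystem M W)

theorem cpr_top_le {a : Fin l → ℤ} (ha : IsRoot cs hp.isCartan a) (h2 : 2 ≤ cpr cs hp.isCartan a (vec D l (D.nroots - 1))) :
    a = vec D l (D.nroots - 1) := by
  have := finite_W hp cs
  obtain ⟨b, hb⟩ : ∃ b, b = vec D l (D.nroots - 1) := ⟨_, rfl⟩
  have hbr : IsRoot cs hp.isCartan b := hb ▸ H798.RG.isRoot_top hp cs
  have hle : ∀ {x : Fin l → ℤ}, IsRoot cs hp.isCartan x → x ≤ b := fun hx => hb ▸ H798.RG.le_top hp cs hx
  have hb0 : 0 ≤ b := hb ▸ H798.RG.top_nonneg hp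
  rw [← hb] at h2 ⊢
  have h3 : IsRoot cs hp.isCartan (a - cpr cs hp.isCartan a b • b) := isRoot_refl cs hp.isCartan ha hbr
  have h4 := hle h3.neg
  refine le_antisymm (hle ha) fun i => ?_
  have h5 := h4 i
  have h6 := hb0 i
  simp only [Pi.neg_apply, Pi.sub_apply, Pi.smul_apply, smul_eq_mul, Pi.zero_apply] at h5 h6
  nlinarith

/-- **the highest root is long** -/
theorem lg_top : Lg cs hp.isCartan (vec D l (D.nroots - 1)) := by
  have := finite_W hp cs
  have h0 := H798.RG.isRoot_top hp cs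
  refine ⟨h0, fun b hb h1 h2 => ?_⟩
  rw [abs_le]
  constructor
  · by_contra h3
    apply h2
    rw [← cpr_top_le hp cs hb.neg (by rw [cpr_neg _ _ _ h0]; omega), neg_neg]
  · by_contra h3
    exact h1 (cpr_top_le hp cs hb (by omega))

theorem lg_rep {β : Fin l → ℤ} (h : ∃ w, β = rep cs hp.isCartan w (vec D l (D.nroots - 1))) : Lg cs hp.isCartan β := by
  have := finite_W hp cs
  obtain ⟨w, rfl⟩ := h
  exact (lg_top hp cs).act w

section Tor

open Cfsg.Agent.BpExc.TorCent Cfsg.Agent.H469.Exc Cfsg.Agent.H316.U6 Cfsg.Agent.H441.RG Cfsg.Agent.H169.RG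

variable {r q : ℕ} [hr : Fact r.Prime] {K₀ : Type v} [Group K₀]

/-- simply laced -/
theorem sl_tor {D : ChevalleyDatum} {l : ℕ} {M : CoxeterMatrix (Fin l)} {hp : IsType D l M} {m : MData hp r q K₀}
    {s : ↥(D.group (KK r))} (f : TorForm m s) {β : Fin l → ℤ}
    (Bβ : Top M.toCoxeterSystem hp.isCartan (ch hp) f.θ f.t β) (hs : SL M.toCoxeterSystem hp.isCartan)
    (h2 : q = 2 → 3 ≤ {a | a ∈ Sx M.toCoxeterSystem hp.isCartan (ch hp) f.t ∧
      IsRoot M.toCoxeterSystem hp.isCartan (β - a)}.ncard)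
    (h3 : q = 3 → 1 ≤ {a | a ∈ Sx M.toCoxeterSystem hp.isCartan (ch hp) f.t ∧
      IsRoot M.toCoxeterSystem hp.isCartan (β - a)}.ncard) :
    Cond (KT hp f.α f.t) (XF l f.α β) (XF l f.α (-β)) := by
  have := finite_fixC_α f
  exact cond_sl_nc (dfr_weak f) Bβ hs (fun h => h2 (m.hq.symm.trans h)) fun h => h3 (m.hq.symm.trans h)

/-- `F₄` -/
theorem F4_tor {M : CoxeterMatrix (Fin 4)} {hp : IsType chevF4 4 M} {m : MData hp r q K₀}
    {s : ↥(chevF4.group (KK r))} (f : TorForm m s) {β : Fin 4 → ℤ}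
    (Bβ : Top M.toCoxeterSystem hp.isCartan (ch hp) f.θ f.t β)
    (hβ : ∃ w, β = rep M.toCoxeterSystem hp.isCartan w (vec chevF4 4 (chevF4.nroots - 1))) (hq : 3 ≤ q)
    (h3 : q = 3 → ∃ a ∈ Sx M.toCoxeterSystem hp.isCartan (ch hp) f.t, IsRoot M.toCoxeterSystem hp.isCartan (β - a)) :
    Cond (KT hp f.α f.t) (XF 4 f.α β) (XF 4 f.α (-β)) := by
  have := finite_fixC_α f
  exact cond_F4 (dfr_weak f) Bβ (fun a b _ hb => hiso_of_refl f (H165.FC.g_refl m) a b hb)
    (lg_rep hp M.toCoxeterSystem hβ) (by rw [m.hq]; exact hq) fun h => h3 (m.hq.symm.trans h)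

end Tor

end Cfsg.Agent.H398.RG
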